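import Cfsg.Agent.DerivedBound35.Gen

/-!
If the derived subgroups of the `C_G(a)` have order at most `m`, so the derived subgroup of `G` has
order bounded in terms of `q` and `m`.
-/

set_option autoImplicit false

open scoped Pointwise commutatorElement

namespace Cfsg.Agent.DerivedBound35

variable {A G : Type*} [Group A] [Group G] [MulDistribMulAction A G] [Finite A] [Finite G] {q m : ℕ}

/-- The hypotheses. -/
structure Hyp (A G : Type*) [Group A] [Group G] [MulDistribMulAction A G] (q m : ℕ) : Prop where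
  hq : q.Prime
  hA : Nat.card A = q ^ 3
  hab : ∀ a b : A, a * b = b * a
  hexp : ∀ a : A, a ^ q = 1
  hcop : (Nat.card A).Coprime (Nat.card G)
  hm : ∀ a : A, a ≠ 1 → Nat.card (⁅Fix G a, Fix G a⁆ : Subgroup G) ≤ m

namespace Hyp

variable (H : Hyp A G q m)
include H

theorem exists_ne_one : ∃ a : A, a ≠ 1 := by
  haveI : Nontrivial A := Finite.one_lt_card_iff_nontrivial.mp
    (by rw [H.hA]; exact Nat.one_lt_pow (by norm_num) H.hq.one_lt)
  exact exists_ne 1

theorem one_le_m : 1 ≤ m := by
  obtain ⟨a, ha⟩ := H.exists_ne_one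
  exact le_trans Nat.card_pos (H.hm a ha)

theorem one_mem_TSet : (1 : G) ∈ TSet A G := by
  obtain ⟨a, ha⟩ := H.exists_ne_one
  exact ⟨a, ha, one_mem _⟩

theorem orderOf_le_of_mem {t : G} (ht : t ∈ TSet A G) : orderOf t ≤ m := by
  obtain ⟨a, ha, ht⟩ := ht
  rw [← Nat.card_zpowers]
  exact (Nat.le_of_dvd Nat.card_pos
    (Subgroup.card_dvd_of_le (Subgroup.zpowers_le.mpr ht))).trans (H.hm a ha)

theorem ncard_TSet_le : (TSet A G).ncard ≤ q ^ 3 * m := by
  classical
  have := Fintype.ofFinite A
  have := Fintype.ofFinite G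
  have hsub : TSet A G ⊆ ↑((Finset.univ.filter fun a : A => a ≠ 1).biUnion
      fun a => ((⁅Fix G a, Fix G a⁆ : Subgroup G) : Set G).toFinset) := by
    rintro t ⟨a, ha, ht⟩
    simp only [Finset.coe_biUnion, Set.mem_iUnion, Finset.coe_filter, Set.mem_setOf_eq,
      Set.coe_toFinset]
    exact ⟨a, ⟨Finset.mem_univ a, ha⟩, ht⟩
  refine (Set.ncard_le_ncard hsub (Finset.finite_toSet _)).trans ?_
  rw [Set.ncard_coe_finset]
  refine (Finset.card_biUnion_le_card_mul _ _ m fun a ha => ?_).trans ?_
  · rw [Set.toFinset_card, ← Nat.card_eq_fintype_card]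
    exact H.hm a (Finset.mem_filter.mp ha).2
  · refine Nat.mul_le_mul_right m ?_
    rw [← H.hA, Nat.card_eq_fintype_card]
    exact Finset.card_filter_le _ _

theorem inv_K (a : A) : Inv A (⁅Fix G a, Fix G a⁆ : Subgroup G) :=
  inv_commutator (inv_fix H.hab a) (inv_fix H.hab a)

theorem good_comm {x y : G} (hx : Good A q x) (hy : Good A q y) : ⁅x, y⁆ ∈ TSet A G :=
  commutator_good_mem H.hab H.hq H.hA hx hy

theorem gen (X : Subgroup G) (hX : Inv A X) (K : Subgroup G)
    (h : ∀ x ∈ X, Good A q x → x ∈ K) : X ≤ K :=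
  le_of_good H.hab H.hexp H.hq H.hA H.hcop X hX K h

omit H in
/-- `⟨T⟩`. -/
def D (A G : Type*) [Group A] [Group G] [MulDistribMulAction A G] : Subgroup G :=
  Subgroup.closure (TSet A G)

theorem D_le_of_good (K : Subgroup G) (h : ∀ t ∈ TSet A G, Good A q t → t ∈ K) : D A G ≤ K := by
  refine (Subgroup.closure_le _).mpr fun t ht => ?_
  obtain ⟨a, ha, hta⟩ := ht
  exact H.gen _ (H.inv_K a) K (fun x hx hg => h x ⟨a, ha, hx⟩ hg) hta

theorem D_normal : (D A G).Normal := by
  have h : (⊤ : Subgroup G) ≤ Subgroup.normalizer (D A G : Set G) := by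
    refine H.gen ⊤ inv_top _ fun y _ hy => ?_
    rw [Subgroup.mem_normalizer_iff_map_conj_eq]
    refine Subgroup.eq_of_le_of_card_ge ?_
      (Subgroup.card_map_of_injective (MulEquiv.injective _)).ge
    rw [Subgroup.map_le_iff_le_comap]
    refine H.D_le_of_good _ fun t ht hgt => ?_
    show y * t * y⁻¹ ∈ D A G
    have h1 : y * t * y⁻¹ = ⁅y, t⁆ * t := by simp only [commutatorElement_def]; group
    rw [h1]
    exact mul_mem (Subgroup.subset_closure (H.good_comm hy hgt)) (Subgroup.subset_closure ht)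
  exact Subgroup.normalizer_eq_top_iff.mp (top_le_iff.mp h)

theorem commutator_le_D : commutator G ≤ D A G := by
  haveI := H.D_normal
  have hn : (⊤ : Subgroup G) ≤ Subgroup.normalizer (D A G : Set G) :=
    (Subgroup.normalizer_eq_top_iff.mpr H.D_normal).ge
  rw [commutator_def]
  exact commutator_le_of_good H.hab H.hexp H.hq H.hA H.hcop ⊤ ⊤ _ inv_top inv_top hn hn
    fun x _ hx y _ hy => Subgroup.subset_closure (H.good_comm hx hy)

omit H in
/-- The centraliser of `⟨T⟩`. -/
def Z (A G : Type*) [Group A] [Group G] [MulDistribMulAction A G] : Subgroup G :=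
  Subgroup.centralizer ((D A G : Subgroup G) : Set G)

theorem Z_normal : (Z A G).Normal := by
  haveI := H.D_normal
  exact Subgroup.normal_centralizer

theorem mem_Z_of_comm {x : G} (h : ∀ t ∈ TSet A G, Good A q t → t * x = x * t) : x ∈ Z A G := by
  have hD : D A G ≤ Subgroup.centralizer {x} := H.D_le_of_good _ fun t ht hgt =>
    Subgroup.mem_centralizer_singleton_iff.mpr (h t ht hgt)
  exact Subgroup.mem_centralizer_iff.mpr fun t ht =>
    Subgroup.mem_centralizer_singleton_iff.mp (hD ht)

/-- Good elements with a common stabiliser have few images modulo `Z`. -/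
theorem card_image_le (U : Subgroup G) (hU : ∀ u ∈ U, Good A q u) (hZ : (Z A G).Normal) :
    Nat.card (U.map (QuotientGroup.mk' (Z A G))) ≤ (q ^ 3 * m) ^ (q ^ 3 * m) := by
  classical
  have := Fintype.ofFinite G
  let Tg := {t : G // t ∈ TSet A G ∧ Good A q t}
  have hw : ∀ w : U.map (QuotientGroup.mk' (Z A G)), ∃ u ∈ U, QuotientGroup.mk' (Z A G) u = w :=
    fun w => Subgroup.mem_map.mp w.2
  choose u hu hu' using hw
  let f : U.map (QuotientGroup.mk' (Z A G)) → Tg → TSet A G := fun w t =>
    ⟨⁅u w, t.1⁆, H.good_comm (hU _ (hu w)) t.2.2⟩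
  have hinj : Function.Injective f := by
    intro v w hvw
    have hz : (u w)⁻¹ * u v ∈ Z A G := H.mem_Z_of_comm fun t ht hgt => by
      have h1 : ⁅u v, t⁆ = ⁅u w, t⁆ := congrArg Subtype.val (congrFun hvw ⟨t, ht, hgt⟩)
      simp only [commutatorElement_def] at h1
      have h2 : u v * t * (u v)⁻¹ = u w * t * (u w)⁻¹ := by
        simpa using mul_right_cancel h1
      calc t * ((u w)⁻¹ * u v) = (u w)⁻¹ * (u w * t * (u w)⁻¹) * u v := by group
        _ = (u w)⁻¹ * (u v * t * (u v)⁻¹) * u v := by rw [h2]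
        _ = (u w)⁻¹ * u v * t := by group
    apply Subtype.ext
    rw [← hu' v, ← hu' w]
    exact (QuotientGroup.eq.mpr hz).symm
  refine (Nat.card_le_card_of_injective f hinj).trans ?_
  rw [Nat.card_fun]
  have hT : Nat.card (TSet A G) ≤ q ^ 3 * m := by
    rw [Nat.card_coe_set_eq]; exact H.ncard_TSet_le
  have hTg : Nat.card Tg ≤ q ^ 3 * m :=
    (Nat.card_le_card_of_injective (fun t : Tg => (⟨t.1, t.2.1⟩ : TSet A G))
      (fun s t hst => Subtype.ext (congrArg (fun z : TSet A G => z.1) hst))).trans hT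
  exact (Nat.pow_le_pow_left hT _).trans
    (Nat.pow_le_pow_right (Nat.mul_pos (Nat.pow_pos H.hq.pos) H.one_le_m) hTg)

omit H in
/-- The lower central series of `P`. -/
def L (P : Subgroup G) : ℕ → Subgroup G
  | 0 => P
  | k + 1 => ⁅L P k, P⁆

omit H in
theorem le_normalizer_L (P : Subgroup G) : ∀ k, P ≤ Subgroup.normalizer (L P k : Set G)
  | 0 => Subgroup.le_normalizer
  | _ + 1 => Coprime.le_normalizer_commutator_right _ _

omit H in
theorem L_anti (P : Subgroup G) : Antitone (L P) :=
  antitone_nat_of_succ_le fun k => Coprime.commutator_le_of_le_normalizer (le_normalizer_L P k)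

theorem inv_L (P : Subgroup G) (hP : Inv A P) : ∀ k, Inv A (L P k)
  | 0 => hP
  | k + 1 => inv_commutator (inv_L P hP k) hP

theorem layer (P : Subgroup G) (hP : Inv A P) (k : ℕ) :
    L P (k + 1) ≤ L P (k + 2) ⊔ Subgroup.closure (TSet A G ∩ (L P (k + 1) : Set G)) := by
  set M := L P (k + 2) ⊔ Subgroup.closure (TSet A G ∩ (L P (k + 1) : Set G)) with hM
  have hPM : P ≤ Subgroup.normalizer (M : Set G) := fun y hy => by
    rw [Subgroup.mem_normalizer_iff_map_conj_eq]
    refine Subgroup.eq_of_le_of_card_ge ?_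
      (Subgroup.card_map_of_injective (MulEquiv.injective _)).ge
    rw [Subgroup.map_le_iff_le_comap, hM, sup_le_iff]
    constructor
    · intro x hx
      exact Subgroup.mem_sup_left ((Subgroup.mem_normalizer_iff.mp
        (le_normalizer_L P (k + 2) hy) x).mp hx)
    · rw [Subgroup.closure_le]
      intro t ht
      show y * t * y⁻¹ ∈ M
      have h1 : y * t * y⁻¹ = ⁅t, y⁆⁻¹ * t := by simp only [commutatorElement_def]; group
      rw [h1]
      exact mul_mem (inv_mem (Subgroup.mem_sup_left
        (Subgroup.commutator_mem_commutator (show t ∈ L P (k + 1) from ht.2) hy)))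
        (Subgroup.mem_sup_right (Subgroup.subset_closure ht))
  refine commutator_le_of_good H.hab H.hexp H.hq H.hA H.hcop (L P k) P M (H.inv_L P hP k) hP
    ((L_anti P (Nat.zero_le k)).trans hPM) hPM fun x hx hgx y hy hgy => ?_
  exact Subgroup.mem_sup_right (Subgroup.subset_closure
    ⟨H.good_comm hgx hgy, Subgroup.commutator_mem_commutator hx hy⟩)

theorem L_eq_bot (P : Subgroup G) (hP : Inv A P) (hnil : Group.IsNilpotent P) :
    L P (q ^ 3 * m + 1) = ⊥ := by
  by_contra hne
  set n := q ^ 3 * m + 1 with hn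
  have hex : ∀ k : Fin n, ∃ t ∈ TSet A G, t ∈ L P (k + 1) ∧ t ∉ L P (k + 2) := by
    intro k
    by_contra hno
    push Not at hno
    have hle : L P (k + 1) ≤ L P (k + 2) := (H.layer P hP k).trans
      (sup_le le_rfl ((Subgroup.closure_le _).mpr fun t ht => hno t ht.1 ht.2))
    have hbot : L P (k + 1) = ⊥ :=
      Coprime.eq_bot_of_le_commutator P hnil (L_anti P (Nat.zero_le _)) hle
    exact hne (le_bot_iff.mp (hbot ▸ L_anti P (by omega : (k : ℕ) + 1 ≤ n)))
  choose t ht ht1 ht2 using hex
  have hmono : ∀ i j : Fin n, i < j → t i ≠ t j := fun i j hij h =>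
    ht2 i (h ▸ L_anti P (by omega : (i : ℕ) + 2 ≤ (j : ℕ) + 1) (ht1 j))
  have hinj : Function.Injective fun k => (⟨t k, ht k⟩ : TSet A G) := fun i j hij => by
    have hij' : t i = t j := congrArg (fun z : TSet A G => z.1) hij
    rcases lt_trichotomy i j with h | h | h
    · exact absurd hij' (hmono i j h)
    · exact h
    · exact absurd hij'.symm (hmono j i h)
  have h1 := Nat.card_le_card_of_injective _ hinj
  rw [Nat.card_fin, Nat.card_coe_set_eq] at h1
  have := H.ncard_TSet_le
  omega

theorem card_L_one_le (P : Subgroup G) (hP : Inv A P) (hnil : Group.IsNilpotent P) :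
    Nat.card (L P 1) ≤ (m ^ (q ^ 3 * m)) ^ (q ^ 3 * m) := by
  classical
  have := Fintype.ofFinite G
  set N := q ^ 3 * m with hN
  have key : ∀ d k, k + d = N + 1 → 1 ≤ k → Nat.card (L P k) ≤ (m ^ N) ^ d := by
    intro d
    induction d with
    | zero =>
      intro k hk _
      rw [show k = N + 1 by omega, hN, H.L_eq_bot P hP hnil]
      simp
    | succ d ih =>
      intro k hk hk1
      obtain ⟨j, rfl⟩ : ∃ j, k = j + 1 := ⟨k - 1, by omega⟩
      let S : Finset G := (TSet A G ∩ (L P (j + 1) : Set G)).toFinset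
      have hle : L P (j + 1) ≤ L P (j + 2) ⊔ Subgroup.closure (S : Set G) := by
        rw [Set.coe_toFinset]; exact H.layer P hP j
      refine (Nat.le_of_dvd Nat.card_pos (Subgroup.card_dvd_of_le hle)).trans ?_
      refine (card_sup_closure_le_pow (m := m) _ S ?_ ?_ ?_).trans ?_
      · exact fun s hs => H.orderOf_le_of_mem (Set.mem_toFinset.mp hs).1
      · exact fun s hs => le_normalizer_L P (j + 2)
          (L_anti P (Nat.zero_le (j + 1)) (Set.mem_toFinset.mp hs).2)
      · exact fun s hs t ht => Subgroup.commutator_mem_commutator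
          (show s ∈ L P (j + 1) from (Set.mem_toFinset.mp hs).2)
          (L_anti P (Nat.zero_le (j + 1)) (Set.mem_toFinset.mp ht).2)
      · rw [pow_succ]
        refine Nat.mul_le_mul (ih (j + 2) (by omega) (by omega)) (Nat.pow_le_pow_right H.one_le_m ?_)
        rw [← Set.ncard_eq_toFinset_card']
        exact (Set.ncard_le_ncard Set.inter_subset_left (Set.toFinite _)).trans H.ncard_TSet_le
  exact key N 1 (by omega) le_rfl

end Hyp

end Cfsg.Agent.DerivedBound35
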