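import Mathlib

/-!
Order bounds: groups generated by few elements of small order, numbers with bounded prime powers,
and Schur's bound for the derived subgroup.
-/

set_option autoImplicit false

open scoped Pointwise commutatorElement

namespace Cfsg.Agent.DerivedBound35

variable {G : Type*} [Group G]

/-- `|H ⊔ K| ≤ |H| |K|` when `K` normalises `H`. -/
theorem card_sup_le [Finite G] (H K : Subgroup G) (h : K ≤ Subgroup.normalizer (H : Set G)) :
    Nat.card (H ⊔ K : Subgroup G) ≤ Nat.card H * Nat.card K := by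
  have hc : ((H ⊔ K : Subgroup G) : Set G) = (H : Set G) * (K : Set G) :=
    Subgroup.coe_mul_of_right_le_normalizer_left H K h
  rw [← Nat.card_prod]
  refine Nat.card_le_card_of_surjective
    (fun x : H × K => (⟨(x.1 : G) * x.2, mul_mem (Subgroup.mem_sup_left x.1.2)
      (Subgroup.mem_sup_right x.2.2)⟩ : (H ⊔ K : Subgroup G))) ?_
  rintro ⟨y, hy⟩
  have : y ∈ (H : Set G) * (K : Set G) := hc ▸ hy
  obtain ⟨a, ha, b, hb, rfl⟩ := Set.mem_mul.mp this
  exact ⟨(⟨a, ha⟩, ⟨b, hb⟩), rfl⟩

/-- `|C ⊔ ⟨S⟩| ≤ |C| m ^ |S|` when the elements of `S` have order at most `m`, normalise `C`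
and commute modulo `C`. -/
theorem card_sup_closure_le_pow [Finite G] {m : ℕ} (C : Subgroup G) (S : Finset G)
    (hm : ∀ s ∈ S, orderOf s ≤ m) (hN : ∀ s ∈ S, s ∈ Subgroup.normalizer (C : Set G))
    (hcomm : ∀ s ∈ S, ∀ t ∈ S, ⁅s, t⁆ ∈ C) :
    Nat.card (C ⊔ Subgroup.closure (S : Set G) : Subgroup G) ≤ Nat.card C * m ^ S.card := by
  classical
  induction S using Finset.induction_on with
  | empty => simp
  | @insert s S hs ih =>
    have hn : Subgroup.zpowers s ≤
        Subgroup.normalizer ((C ⊔ Subgroup.closure (S : Set G) : Subgroup G) : Set G) := by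
      rw [Subgroup.zpowers_le, Subgroup.mem_normalizer_iff_map_conj_eq]
      refine Subgroup.eq_of_le_of_card_ge ?_ (Subgroup.card_map_of_injective (MulEquiv.injective _)).ge
      rw [Subgroup.map_sup, sup_le_iff]
      constructor
      · refine le_trans (le_of_eq ?_) le_sup_left
        exact Subgroup.mem_normalizer_iff_map_conj_eq.mp (hN s (Finset.mem_insert_self s S))
      · rw [MonoidHom.map_closure, Subgroup.closure_le]
        rintro _ ⟨t, ht, rfl⟩
        have h1 : s * t * s⁻¹ = ⁅s, t⁆ * t := by simp only [commutatorElement_def]; group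
        show s * t * s⁻¹ ∈ C ⊔ Subgroup.closure (S : Set G)
        rw [h1]
        exact mul_mem (Subgroup.mem_sup_left (hcomm s (Finset.mem_insert_self s S) t
          (Finset.mem_insert_of_mem ht))) (Subgroup.mem_sup_right (Subgroup.subset_closure ht))
    have he : C ⊔ Subgroup.closure ((insert s S : Finset G) : Set G) =
        C ⊔ Subgroup.closure (S : Set G) ⊔ Subgroup.zpowers s := by
      rw [Finset.coe_insert, Set.insert_eq, Subgroup.closure_union, Subgroup.zpowers_eq_closure,
        sup_assoc, sup_comm (Subgroup.closure {s})]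
    rw [he, Finset.card_insert_of_notMem hs, pow_succ, ← mul_assoc]
    refine (card_sup_le _ _ hn).trans (Nat.mul_le_mul (ih
      (fun t ht => hm t (Finset.mem_insert_of_mem ht))
      (fun t ht => hN t (Finset.mem_insert_of_mem ht))
      (fun t ht u hu => hcomm t (Finset.mem_insert_of_mem ht) u (Finset.mem_insert_of_mem hu))) ?_)
    rw [Nat.card_zpowers]
    exact hm s (Finset.mem_insert_self s S)

/-- A number all of whose primes are at most `L` and whose prime power parts are at most `c`. -/
theorem le_pow_of_primePart_le {n L c : ℕ} (hn : n ≠ 0) (hc : 1 ≤ c)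
    (hL : ∀ p : ℕ, p.Prime → p ∣ n → p ≤ L)
    (h : ∀ p : ℕ, p.Prime → p ∣ n → p ^ n.factorization p ≤ c) : n ≤ c ^ (L + 1) := by
  conv_lhs => rw [← Nat.prod_factorization_pow_eq_self hn]
  rw [Finsupp.prod, Nat.support_factorization]
  refine (Finset.prod_le_pow_card _ _ c fun p hp => h p (Nat.prime_of_mem_primeFactors hp)
    (Nat.dvd_of_mem_primeFactors hp)).trans (Nat.pow_le_pow_right hc ?_)
  calc n.primeFactors.card ≤ (Finset.range (L + 1)).card :=
        Finset.card_le_card fun p hp => Finset.mem_range.mpr (Nat.lt_succ_of_le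
          (hL p (Nat.prime_of_mem_primeFactors hp) (Nat.dvd_of_mem_primeFactors hp)))
    _ = L + 1 := Finset.card_range _

/-- Schur: the derived subgroup is bounded in terms of the index of the centre. -/
theorem card_commutator_le_of_index_center [Finite G] {z : ℕ} (hz : (Subgroup.center G).index ≤ z) :
    Nat.card (commutator G) ≤ z ^ (z * (z * z) + 1) := by
  classical
  have hi : 0 < (Subgroup.center G).index := Nat.pos_of_ne_zero Subgroup.index_ne_zero_of_finite
  have hcomm : Nat.card (commutatorSet G) ≤ z * z := by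
    let f : (G ⧸ Subgroup.center G) × (G ⧸ Subgroup.center G) → commutatorSet G := fun x =>
      ⟨⁅x.1.out, x.2.out⁆, commutator_mem_commutatorSet _ _⟩
    have hsurj : Function.Surjective f := by
      rintro ⟨_, a, b, rfl⟩
      refine ⟨((a : G ⧸ Subgroup.center G), (b : G ⧸ Subgroup.center G)), Subtype.ext ?_⟩
      obtain ⟨u, hu⟩ := QuotientGroup.mk_out_eq_mul (Subgroup.center G) a
      obtain ⟨v, hv⟩ := QuotientGroup.mk_out_eq_mul (Subgroup.center G) b
      show ⁅(a : G ⧸ Subgroup.center G).out, (b : G ⧸ Subgroup.center G).out⁆ = ⁅a, b⁆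
      rw [hu, hv]
      have hu' := Subgroup.mem_center_iff.mp u.2
      have hv' := Subgroup.mem_center_iff.mp v.2
      simp only [commutatorElement_def, mul_inv_rev]
      calc a * u * (b * v) * ((u : G)⁻¹ * a⁻¹) * ((v : G)⁻¹ * b⁻¹)
          = a * ((u : G) * b) * ((v : G) * (u : G)⁻¹) * a⁻¹ * ((v : G)⁻¹ * b⁻¹) := by group
        _ = a * (b * (u : G)) * ((u : G)⁻¹ * (v : G)) * a⁻¹ * ((v : G)⁻¹ * b⁻¹) := by
              rw [hu' b, hv' (u : G)⁻¹]
        _ = a * b * ((v : G) * a⁻¹) * (v : G)⁻¹ * b⁻¹ := by group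
        _ = a * b * (a⁻¹ * (v : G)) * (v : G)⁻¹ * b⁻¹ := by rw [hv' a⁻¹]
        _ = a * b * a⁻¹ * b⁻¹ := by group
    refine (Nat.card_le_card_of_surjective f hsurj).trans ?_
    rw [Nat.card_prod, ← Subgroup.index]
    exact Nat.mul_le_mul hz hz
  refine (Nat.le_of_dvd (Nat.pow_pos hi) (Subgroup.card_commutator_dvd_index_center_pow G)).trans ?_
  refine (Nat.pow_le_pow_left hz _).trans (Nat.pow_le_pow_right (hi.trans_le hz) ?_)
  exact Nat.succ_le_succ (Nat.mul_le_mul hz hcomm)

end Cfsg.Agent.DerivedBound35
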