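import Cfsg.Agent.Lib.Coprime.Hom
import Cfsg.Agent.Lib.PGroup.Basic
import Cfsg.Agent.DerivedBound35.Count

/-!
An elementary abelian group of order `q ^ 3` acting coprimely: invariant subgroups are generated by
their elements with stabiliser of order at least `q ^ 2`, and commutators of two such elements are
commutators inside the fixed-point subgroup of a non-identity element.
-/

set_option autoImplicit false

open scoped Pointwise commutatorElement

namespace Cfsg.Agent.DerivedBound35

variable {A G : Type*} [Group A] [Group G] [MulDistribMulAction A G]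

/-- `X` is invariant under `A`. -/
def Inv (A : Type*) {G : Type*} [Group A] [Group G] [MulDistribMulAction A G] (X : Subgroup G) :
    Prop :=
  ∀ (a : A), ∀ x ∈ X, a • x ∈ X

/-- The fixed points of `a`. -/
abbrev Fix (G : Type*) {A : Type*} [Group A] [Group G] [MulDistribMulAction A G] (a : A) :
    Subgroup G :=
  FixedPoints.subgroup (Subgroup.zpowers a) G

theorem mem_fix {a : A} {x : G} : x ∈ Fix G a ↔ a • x = x := by
  constructor
  · intro h
    exact h ⟨a, Subgroup.mem_zpowers a⟩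
  · rintro h ⟨b, hb⟩
    have : Subgroup.zpowers a ≤ MulAction.stabilizer A x :=
      Subgroup.zpowers_le.mpr (MulAction.mem_stabilizer_iff.mpr h)
    exact MulAction.mem_stabilizer_iff.mp (this hb)

theorem inv_top : Inv A (⊤ : Subgroup G) := fun _ _ _ => Subgroup.mem_top _

theorem inv_fix (hab : ∀ a b : A, a * b = b * a) (b : A) : Inv A (Fix G b) := fun a x hx => by
  rw [mem_fix] at hx ⊢
  rw [← mul_smul, hab, mul_smul, hx]

theorem inv_inf {X Y : Subgroup G} (hX : Inv A X) (hY : Inv A Y) : Inv A (X ⊓ Y) :=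
  fun a x hx => ⟨hX a x hx.1, hY a x hx.2⟩

theorem inv_commutator {X Y : Subgroup G} (hX : Inv A X) (hY : Inv A Y) : Inv A ⁅X, Y⁆ := by
  intro a
  have : ⁅X, Y⁆ ≤ (⁅X, Y⁆).comap (MulDistribMulAction.toMonoidHom G a) :=
    Subgroup.commutator_le.mpr fun x hx y hy => by
      show (MulDistribMulAction.toMonoidHom G a) ⁅x, y⁆ ∈ ⁅X, Y⁆
      rw [map_commutatorElement]
      exact Subgroup.commutator_mem_commutator (hX a x hx) (hY a y hy)
  exact fun x hx => this hx

/-- Restriction of the action to a subgroup of `A` and an invariant subgroup. -/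
def resAct (B : Subgroup A) (X : Subgroup G) (hX : Inv A X) : B →* MulAut X where
  toFun b :=
    { toFun := fun x => ⟨(b : A) • (x : G), hX b x x.2⟩
      invFun := fun x => ⟨(b : A)⁻¹ • (x : G), hX (b : A)⁻¹ x x.2⟩
      left_inv := fun x => by ext; exact inv_smul_smul _ _
      right_inv := fun x => by ext; exact smul_inv_smul _ _
      map_mul' := fun x y => by ext; exact smul_mul' _ _ _ }
  map_one' := by ext x; exact one_smul A (x : G)
  map_mul' b c := by ext x; exact mul_smul (b : A) (c : A) (x : G)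

/-- An element is good when its stabiliser has order at least `q ^ 2`. -/
def Good (A : Type*) {G : Type*} [Group A] [Group G] [MulDistribMulAction A G] (q : ℕ) (x : G) :
    Prop :=
  q ^ 2 ≤ Nat.card (MulAction.stabilizer A x)

variable [Finite A] [Finite G] {q : ℕ}

theorem not_isCyclic_of_card (hexp : ∀ a : A, a ^ q = 1) (hq : q.Prime) (B : Subgroup A)
    (h : q ^ 2 ≤ Nat.card B) : ¬ IsCyclic B := by
  intro hc
  obtain ⟨g, hg⟩ := hc.exists_generator
  have h1 : orderOf g ≤ q :=
    Nat.le_of_dvd hq.pos (orderOf_dvd_of_pow_eq_one (Subtype.ext (hexp g)))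
  rw [orderOf_eq_card_of_forall_mem_zpowers hg] at h1
  have h2 := hq.two_le
  nlinarith

/-- One layer of coprime generation. -/
theorem le_of_fixed (hab : ∀ a b : A, a * b = b * a) (hexp : ∀ a : A, a ^ q = 1) (hq : q.Prime)
    (hcop : (Nat.card A).Coprime (Nat.card G)) (B : Subgroup A) (hB : q ^ 2 ≤ Nat.card B)
    (X : Subgroup G) (hX : Inv A X) (H : Subgroup G)
    (h : ∀ b ∈ B, b ≠ 1 → ∀ x ∈ X, b • x = x → x ∈ H) : X ≤ H := by
  haveI : IsMulCommutative B := ⟨⟨fun a b => Subtype.ext (hab a b)⟩⟩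
  have ht := Coprime.eq_top_of_fixed_le_hom (resAct B X hX) (not_isCyclic_of_card hexp hq B hB)
    (Nat.Coprime.coprime_dvd_left (Subgroup.card_subgroup_dvd_card B)
      (hcop.coprime_dvd_right (Subgroup.card_subgroup_dvd_card X)))
    (H.subgroupOf X) (fun b hb x hx => Subgroup.mem_subgroupOf.mpr
      (h b b.2 (fun e => hb (Subtype.ext e)) x x.2 (congrArg Subtype.val hx)))
  intro x hx
  exact Subgroup.mem_subgroupOf.mp (ht ▸ Subgroup.mem_top (⟨x, hx⟩ : X))

/-- Invariant subgroups are generated by their good elements. -/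
theorem le_of_good (hab : ∀ a b : A, a * b = b * a) (hexp : ∀ a : A, a ^ q = 1) (hq : q.Prime)
    (hA : Nat.card A = q ^ 3) (hcop : (Nat.card A).Coprime (Nat.card G))
    (X : Subgroup G) (hX : Inv A X) (H : Subgroup G) (h : ∀ x ∈ X, Good A q x → x ∈ H) :
    X ≤ H := by
  haveI := Fact.mk hq
  have hAp : IsPGroup q A := IsPGroup.of_card hA
  refine le_of_fixed hab hexp hq hcop ⊤ ?_ X hX H fun a _ ha x hx hxa => ?_
  · rw [Subgroup.card_top, hA]
    exact Nat.pow_le_pow_right hq.pos (by norm_num)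
  obtain ⟨M, -, hM, haM⟩ := PGroup.exists_isCoatom_not_mem (G := A) (p := q)
    (fun u v => hab u v) hexp (H := ⊥) (v := a) (fun h => ha (Subgroup.mem_bot.mp h))
  have hMc : q ^ 2 ≤ Nat.card M := by
    have h1 := M.card_mul_index
    rw [PGroup.index_eq_prime_of_isCoatom hAp hM, hA, pow_succ q 2] at h1
    exact (Nat.eq_of_mul_eq_mul_right hq.pos h1).ge
  have hY : X ⊓ Fix G a ≤ H := by
    refine le_of_fixed hab hexp hq hcop M hMc _ (inv_inf hX (inv_fix hab a)) H
      fun b hb hb1 y hy hyb => h y hy.1 ?_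
    obtain ⟨k, hk⟩ := IsPGroup.iff_card.mp (hAp.to_subgroup (MulAction.stabilizer A y))
    have hay : a ∈ MulAction.stabilizer A y := MulAction.mem_stabilizer_iff.mpr (mem_fix.mp hy.2)
    have hby : b ∈ MulAction.stabilizer A y := MulAction.mem_stabilizer_iff.mpr hyb
    show q ^ 2 ≤ _
    rw [hk]
    refine Nat.pow_le_pow_right hq.pos ?_
    by_contra hlt
    push Not at hlt
    have horda : orderOf a = q := orderOf_eq_prime (hexp a) ha
    have hle : Nat.card (MulAction.stabilizer A y) ≤ Nat.card (Subgroup.zpowers a) := by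
      rw [hk, Nat.card_zpowers, horda]
      exact (Nat.pow_le_pow_right hq.pos (by omega : k ≤ 1)).trans (pow_one q).le
    have heq := Subgroup.eq_of_le_of_card_ge (Subgroup.zpowers_le.mpr hay) hle
    have hba : b ∈ Subgroup.zpowers a := heq ▸ hby
    have hgen : Subgroup.zpowers b = Subgroup.zpowers a :=
      Subgroup.eq_of_le_of_card_ge (Subgroup.zpowers_le.mpr hba)
        (by rw [Nat.card_zpowers, Nat.card_zpowers, horda, orderOf_eq_prime (hexp b) hb1])
    exact haM ((Subgroup.zpowers_le.mpr hb) (hgen ▸ Subgroup.mem_zpowers a))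
  exact hY ⟨hx, mem_fix.mpr hxa⟩

/-- The union of the derived subgroups of the `C_G(a)`. -/
def TSet (A G : Type*) [Group A] [Group G] [MulDistribMulAction A G] : Set G :=
  {t | ∃ a : A, a ≠ 1 ∧ t ∈ ⁅Fix G a, Fix G a⁆}

/-- Two good elements commute modulo `TSet`. -/
theorem commutator_good_mem (hab : ∀ a b : A, a * b = b * a) (hq : q.Prime)
    (hA : Nat.card A = q ^ 3) {x y : G} (hx : Good A q x) (hy : Good A q y) :
    ⁅x, y⁆ ∈ TSet A G := by
  set S := MulAction.stabilizer A x
  set R := MulAction.stabilizer A y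
  have hne : S ⊓ R ≠ ⊥ := by
    intro h
    haveI : R.Normal := ⟨fun n hn g => by rwa [hab g n, mul_inv_cancel_right]⟩
    have h1 : R.relIndex S = Nat.card S := by
      have h3 := Subgroup.card_mul_index (R.subgroupOf S)
      have h4 : R.subgroupOf S = ⊥ := by
        rw [Subgroup.subgroupOf_eq_bot, disjoint_comm, disjoint_iff, h]
      rw [h4, Subgroup.card_bot, one_mul] at h3
      rw [Subgroup.relIndex, h4]
      exact h3
    have h2 : R.relIndex S ≤ R.index :=
      Nat.le_of_dvd (Nat.pos_of_ne_zero Subgroup.index_ne_zero_of_finite)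
        (Subgroup.relIndex_dvd_index_of_normal R S)
    have h5 := R.card_mul_index
    have h6 : q ^ 2 * q ^ 2 ≤ q ^ 3 := by
      rw [← hA, ← h5]
      exact Nat.mul_le_mul hy (hx.trans (h1 ▸ h2))
    have h7 : q ^ 3 < q ^ 2 * q ^ 2 := by
      rw [← pow_add]
      exact Nat.pow_lt_pow_right hq.one_lt (by norm_num)
    omega
  obtain ⟨⟨a, ha⟩, ha1⟩ := Subgroup.ne_bot_iff_exists_ne_one.mp hne
  exact ⟨a, fun h => ha1 (Subtype.ext h), Subgroup.commutator_mem_commutator
    (mem_fix.mpr (MulAction.mem_stabilizer_iff.mp ha.1))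
    (mem_fix.mpr (MulAction.mem_stabilizer_iff.mp ha.2))⟩

/-- The commutator of two invariant subgroups lies in `M` when the good elements commute modulo
`M`, both subgroups normalising `M`. -/
theorem commutator_le_of_good (hab : ∀ a b : A, a * b = b * a) (hexp : ∀ a : A, a ^ q = 1)
    (hq : q.Prime) (hA : Nat.card A = q ^ 3) (hcop : (Nat.card A).Coprime (Nat.card G))
    (X Y M : Subgroup G) (hX : Inv A X) (hY : Inv A Y)
    (hXM : X ≤ Subgroup.normalizer (M : Set G)) (hYM : Y ≤ Subgroup.normalizer (M : Set G))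
    (h : ∀ x ∈ X, Good A q x → ∀ y ∈ Y, Good A q y → ⁅x, y⁆ ∈ M) : ⁅X, Y⁆ ≤ M := by
  have conj : ∀ g ∈ Subgroup.normalizer (M : Set G), ∀ n ∈ M, g * n * g⁻¹ ∈ M := fun g hg n hn =>
    (Subgroup.mem_normalizer_iff.mp hg n).mp hn
  let RY : G → Subgroup G := fun x =>
    { carrier := {y | y ∈ Subgroup.normalizer (M : Set G) ∧ ⁅x, y⁆ ∈ M}
      mul_mem' := fun {y z} hy hz => ⟨mul_mem hy.1 hz.1, by
        have h1 : ⁅x, y * z⁆ = ⁅x, y⁆ * (y * ⁅x, z⁆ * y⁻¹) := by
          simp only [commutatorElement_def]; group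
        rw [h1]
        exact mul_mem hy.2 (conj y hy.1 _ hz.2)⟩
      one_mem' := ⟨one_mem _, by simp [commutatorElement_def]⟩
      inv_mem' := fun {y} hy => ⟨inv_mem hy.1, by
        have h1 : ⁅x, y⁻¹⁆ = y⁻¹ * ⁅x, y⁆⁻¹ * y⁻¹⁻¹ := by
          simp only [commutatorElement_def]; group
        rw [h1]
        exact conj _ (inv_mem hy.1) _ (inv_mem hy.2)⟩ }
  let RX : Subgroup G :=
    { carrier := {x | x ∈ Subgroup.normalizer (M : Set G) ∧ ∀ y ∈ Y, ⁅x, y⁆ ∈ M}
      mul_mem' := fun {x z} hx hz => ⟨mul_mem hx.1 hz.1, fun y hy => by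
        have h1 : ⁅x * z, y⁆ = x * ⁅z, y⁆ * x⁻¹ * ⁅x, y⁆ := by
          simp only [commutatorElement_def]; group
        rw [h1]
        exact mul_mem (conj x hx.1 _ (hz.2 y hy)) (hx.2 y hy)⟩
      one_mem' := ⟨one_mem _, fun y _ => by simp [commutatorElement_def]⟩
      inv_mem' := fun {x} hx => ⟨inv_mem hx.1, fun y hy => by
        have h1 : ⁅x⁻¹, y⁆ = x⁻¹ * ⁅x, y⁆⁻¹ * x⁻¹⁻¹ := by
          simp only [commutatorElement_def]; group
        rw [h1]
        exact conj _ (inv_mem hx.1) _ (inv_mem (hx.2 y hy))⟩ }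
  have hXR : X ≤ RX := le_of_good hab hexp hq hA hcop X hX RX fun x hx hgx => by
    refine ⟨hXM hx, fun y hy => ?_⟩
    have hYR : Y ≤ RY x := le_of_good hab hexp hq hA hcop Y hY (RY x)
      fun y hy hgy => ⟨hYM hy, h x hx hgx y hy hgy⟩
    exact (hYR hy).2
  exact Subgroup.commutator_le.mpr fun x hx y hy => (hXR hx).2 y hy

end Cfsg.Agent.DerivedBound35
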