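import Cfsg.Agent.DerivedBound35.Bound

/-!
The bound on the order of the derived subgroup.
-/

set_option autoImplicit false

open scoped Pointwise commutatorElement

namespace Cfsg.Agent.DerivedBound35

/-- `|T|`, at most. -/
def bN (q m : ℕ) : ℕ := q ^ 3 * m
/-- Image of a set of good elements with a common stabiliser. -/
def bC (q m : ℕ) : ℕ := bN q m ^ bN q m
/-- A prime part of the index of `Z`. -/
def bP (q m : ℕ) : ℕ := (m ^ bN q m) ^ bN q m * bC q m ^ (2 ^ q ^ 3 * bC q m)
/-- The index of `Z`. -/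
def bZ (q m : ℕ) : ℕ := bP q m ^ (bC q m + 1)
/-- The derived subgroup. -/
def bG (q m : ℕ) : ℕ := bZ q m ^ (bZ q m * (bZ q m * bZ q m) + 1) * m ^ bN q m

variable {A G : Type*} [Group A] [Group G] [MulDistribMulAction A G] [Finite A] [Finite G] {q m : ℕ}

namespace Hyp

variable (H : Hyp A G q m)
include H

theorem exists_inv_sylow (p : ℕ) [Fact p.Prime] : ∃ P : Sylow p G, Inv A (P : Subgroup G) := by
  obtain ⟨P, hP⟩ := Coprime.exists_invariant_sylow_hom (MulDistribMulAction.toMulAut A G)
    H.hcop (Or.inl (Group.isSolvable_of_comm H.hab)) p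
  exact ⟨P, fun a x hx => hP a x hx⟩

/-- The prime `p` occurs in the index of `Z` at most to the power bounded by `bP`. -/
theorem primePart_le (p : ℕ) (hp : p.Prime) (hpd : p ∣ (Z A G).index) :
    p ≤ bC q m ∧ p ^ (Z A G).index.factorization p ≤ bP q m := by
  classical
  haveI := Fact.mk hp
  have := Fintype.ofFinite A
  have := Fintype.ofFinite G
  haveI hZn : (Z A G).Normal := H.Z_normal
  obtain ⟨P, hPinv⟩ := H.exists_inv_sylow p
  set π := QuotientGroup.mk' (Z A G) with hπ
  set PB := (P : Subgroup G).map π with hPBdef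
  have hπs : Function.Surjective π := QuotientGroup.mk'_surjective _
  have hcard : Nat.card PB = p ^ (Z A G).index.factorization p := by
    rw [hPBdef, ← P.coe_mapSurjective hπs, (P.mapSurjective hπs).card_eq_multiplicity,
      ← Subgroup.index_eq_card]
  -- good elements of `P`, grouped by stabiliser
  let Bs : Finset (Subgroup A) := Finset.univ.filter fun B => q ^ 2 ≤ Nat.card B
  let U : Subgroup A → Subgroup G := fun B =>
    (P : Subgroup G) ⊓ ⨅ b : B, Fix G (b : A)
  have hU : ∀ B ∈ Bs, Nat.card ((U B).map π) ≤ bC q m := fun B hB => by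
    refine H.card_image_le _ (fun u hu => ?_) hZn
    refine (Finset.mem_filter.mp hB).2.trans (Nat.le_of_dvd Nat.card_pos (Subgroup.card_dvd_of_le ?_))
    intro b hb
    exact MulAction.mem_stabilizer_iff.mpr (mem_fix.mp (Subgroup.mem_iInf.mp hu.2 ⟨b, hb⟩))
  let S : Finset (G ⧸ Z A G) :=
    Bs.biUnion fun B => (((U B).map π : Subgroup _) : Set (G ⧸ Z A G)).toFinset
  have hSmem : ∀ s ∈ S, ∃ B ∈ Bs, s ∈ (U B).map π := fun s hs => by
    obtain ⟨B, hB, h⟩ := Finset.mem_biUnion.mp hs
    exact ⟨B, hB, Set.mem_toFinset.mp h⟩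
  have hSord : ∀ s ∈ S, orderOf s ≤ bC q m := fun s hs => by
    obtain ⟨B, hB, h⟩ := hSmem s hs
    rw [← Nat.card_zpowers]
    exact (Nat.le_of_dvd Nat.card_pos
      (Subgroup.card_dvd_of_le (Subgroup.zpowers_le.mpr h))).trans (hU B hB)
  have hSP : ∀ s ∈ S, s ∈ PB := fun s hs => by
    obtain ⟨B, hB, h⟩ := hSmem s hs
    exact Subgroup.map_mono inf_le_left h
  have hgen : PB ≤ Subgroup.closure (S : Set (G ⧸ Z A G)) := by
    rw [hPBdef, Subgroup.map_le_iff_le_comap]
    refine H.gen _ hPinv _ fun x hx hgx => Subgroup.subset_closure ?_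
    refine Finset.mem_biUnion.mpr ⟨MulAction.stabilizer A x,
      Finset.mem_filter.mpr ⟨Finset.mem_univ _, hgx⟩, Set.mem_toFinset.mpr ?_⟩
    exact Subgroup.mem_map_of_mem _ ⟨hx, Subgroup.mem_iInf.mpr fun b =>
      mem_fix.mpr (MulAction.mem_stabilizer_iff.mp b.2)⟩
  have hScard : S.card ≤ 2 ^ q ^ 3 * bC q m := by
    refine (Finset.card_biUnion_le_card_mul _ _ (bC q m) fun B hB => ?_).trans
      (Nat.mul_le_mul_right _ ?_)
    · rw [Set.toFinset_card, ← Nat.card_eq_fintype_card]
      exact hU B hB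
    · refine (Finset.card_le_univ _).trans ?_
      refine (Fintype.card_le_of_injective (fun B : Subgroup A => (B : Set A))
        SetLike.coe_injective).trans ?_
      rw [Fintype.card_set, ← Nat.card_eq_fintype_card, H.hA]
  have h1N : 1 ≤ bC q m := Nat.pow_pos (Nat.mul_pos (Nat.pow_pos H.hq.pos) H.one_le_m)
  refine ⟨?_, ?_⟩
  · by_contra hgt
    push Not at hgt
    have hbot : PB = ⊥ := le_bot_iff.mp (hgen.trans ((Subgroup.closure_le _).mpr fun s hs => by
      have h2 := hSord s hs
      obtain ⟨k, hk⟩ := (P.2.map π) ⟨s, hSP s hs⟩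
      have hk' : s ^ p ^ k = 1 := congrArg Subtype.val hk
      obtain ⟨i, -, hi⟩ := (Nat.dvd_prime_pow hp).mp (orderOf_dvd_of_pow_eq_one hk')
      rcases i with _ | i
      · exact Subgroup.mem_bot.mpr (orderOf_eq_one_iff.mp (by rw [hi, pow_zero]))
      · exfalso
        have : p ≤ orderOf s := by
          rw [hi]; exact Nat.le_self_pow (Nat.succ_ne_zero i) p
        omega))
    rw [hbot, Subgroup.card_bot] at hcard
    have h3 := (hp.dvd_iff_one_le_factorization Subgroup.index_ne_zero_of_finite).mp hpd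
    have h4 : 1 < p ^ (Z A G).index.factorization p :=
      Nat.one_lt_pow (by omega) hp.one_lt
    omega
  · rw [← hcard]
    set C := (L (P : Subgroup G) 1).map π with hC
    have hPC : PB ≤ C ⊔ Subgroup.closure (S : Set _) := hgen.trans le_sup_right
    refine (Nat.le_of_dvd Nat.card_pos (Subgroup.card_dvd_of_le hPC)).trans ?_
    refine (card_sup_closure_le_pow (m := bC q m) C S hSord ?_ ?_).trans ?_
    · intro s hs
      have h := hSP s hs
      rw [hPBdef] at h
      obtain ⟨x, hx, rfl⟩ := h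
      exact Subgroup.le_normalizer_map π
        (Subgroup.mem_map_of_mem π (le_normalizer_L (P : Subgroup G) 1 hx))
    · intro s hs t ht
      have h1 := hSP s hs
      have h2 := hSP t ht
      rw [hPBdef] at h1 h2
      obtain ⟨x, hx, rfl⟩ := h1
      obtain ⟨y, hy, rfl⟩ := h2
      rw [← map_commutatorElement]
      exact Subgroup.mem_map_of_mem π
        (Subgroup.commutator_mem_commutator (show x ∈ L (P : Subgroup G) 0 from hx) hy)
    · refine Nat.mul_le_mul ?_ (Nat.pow_le_pow_right h1N hScard)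
      exact (Nat.le_of_dvd Nat.card_pos (Subgroup.card_map_dvd _ π)).trans
        (H.card_L_one_le (P : Subgroup G) hPinv P.isPGroup'.isNilpotent)

theorem card_commutator_le : Nat.card (commutator G) ≤ bG q m := by
  classical
  have := Fintype.ofFinite G
  refine (Nat.le_of_dvd Nat.card_pos (Subgroup.card_dvd_of_le H.commutator_le_D)).trans ?_
  have hC1 : 1 ≤ bC q m := Nat.pow_pos (Nat.mul_pos (Nat.pow_pos H.hq.pos) H.one_le_m)
  have hP1 : 1 ≤ bP q m := Nat.mul_pos (Nat.pow_pos (Nat.pow_pos H.one_le_m)) (Nat.pow_pos hC1)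
  have hZi : (Z A G).index ≤ bZ q m := le_pow_of_primePart_le Subgroup.index_ne_zero_of_finite hP1
    (fun p hp hpd => (H.primePart_le p hp hpd).1) (fun p hp hpd => (H.primePart_le p hp hpd).2)
  set d := D A G with hd
  have hle : (Z A G).subgroupOf d ≤ Subgroup.center d := fun x hx =>
    Subgroup.mem_center_iff.mpr fun y => Subtype.ext
      (Subgroup.mem_centralizer_iff.mp (Subgroup.mem_subgroupOf.mp hx) y y.2)
  haveI := H.Z_normal
  have hcz : (Subgroup.center d).index ≤ bZ q m := by
    refine le_trans (Nat.le_of_dvd (Nat.pos_of_ne_zero Subgroup.index_ne_zero_of_finite)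
      (Subgroup.index_dvd_of_le hle)) ?_
    exact (Nat.le_of_dvd (Nat.pos_of_ne_zero Subgroup.index_ne_zero_of_finite)
      (Subgroup.relIndex_dvd_index_of_normal (Z A G) d)).trans hZi
  have hD' : Nat.card (⁅d, d⁆ : Subgroup G) ≤ bZ q m ^ (bZ q m * (bZ q m * bZ q m) + 1) := by
    rw [← Subgroup.map_subtype_commutator, Subgroup.card_map_of_injective d.subtype_injective]
    exact card_commutator_le_of_index_center hcz
  let S : Finset G := (TSet A G).toFinset
  have hdle : d ≤ ⁅d, d⁆ ⊔ Subgroup.closure (S : Set G) := by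
    refine le_trans ?_ le_sup_right
    rw [Set.coe_toFinset]
    exact le_rfl
  refine (Nat.le_of_dvd Nat.card_pos (Subgroup.card_dvd_of_le hdle)).trans ?_
  refine (card_sup_closure_le_pow (m := m) _ S
    (fun s hs => H.orderOf_le_of_mem (Set.mem_toFinset.mp hs))
    (fun s hs => Coprime.le_normalizer_commutator_right d d
      (Subgroup.subset_closure (Set.mem_toFinset.mp hs)))
    (fun s hs t ht => Subgroup.commutator_mem_commutator
      (Subgroup.subset_closure (Set.mem_toFinset.mp hs))
      (Subgroup.subset_closure (Set.mem_toFinset.mp ht)))).trans ?_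
  refine Nat.mul_le_mul hD' (Nat.pow_le_pow_right H.one_le_m ?_)
  rw [← Set.ncard_eq_toFinset_card']
  exact H.ncard_TSet_le

end Hyp

end Cfsg.Agent.DerivedBound35
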